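import Groth.Agent.Lib.NormalSmooth12.Basic
import Groth.Agent.Lib.AlgSpDecent.FiniteMin
import Groth.Prelude.Def_Pi1
import Mathlib.AlgebraicGeometry.Morphisms.Finite
import Mathlib.AlgebraicGeometry.Morphisms.Smooth
import Mathlib.AlgebraicGeometry.Morphisms.QuasiFinite

/-!
# Sections of finite morphisms and extensions to local rings of normal schemes
-/

set_option autoImplicit false
set_option linter.style.haveILetI false
set_option backward.isDefEq.respectTransparency.types false

universe u

open CategoryTheory Limits AlgebraicGeometry Topology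

namespace Groth.Agent.NormalExt19

theorem isNormalRing_of_isNormalScheme {X : Scheme.{u}} (hX : Pi1.IsNormalScheme X) {O : X.Opens}
    (hO : IsAffineOpen O) : EGA4.IsNormalRing Γ(X, O) := by
  intro p hp
  let x : O := ⟨hO.fromSpec ⟨p, hp⟩, hO.range_fromSpec.le ⟨_, rfl⟩⟩
  have hx : hO.primeIdealOf x = ⟨p, hp⟩ :=
    hO.fromSpec.isOpenEmbedding.injective (by rw [hO.fromSpec_primeIdealOf])
  let := X.presheaf.algebra_section_stalk x
  haveI : IsLocalization.AtPrime (X.presheaf.stalk x.1) p := by
    have := hO.isLocalization_stalk x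
    rwa [hx] at this
  exact NormalSmooth12.normalDomain_of_ringEquiv
    (IsLocalization.algEquiv p.primeCompl (X.presheaf.stalk x.1) (Localization.AtPrime p)).toRingEquiv (hX x.1)

theorem isNormalScheme_of_smooth {Z X : Scheme.{u}} (g : Z ⟶ X) [Smooth g] (hX : Pi1.IsNormalScheme X) :
    Pi1.IsNormalScheme Z := by
  intro z
  obtain ⟨O, hO, hxO, -⟩ := exists_isAffineOpen_mem_and_subset (X := X) (x := g z) (U := ⊤) trivial
  obtain ⟨V, hV, hzV, hVO⟩ := exists_isAffineOpen_mem_and_subset (U := g ⁻¹ᵁ O) (x := z) hxO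
  have he := HasRingHomProperty.appLE (P := @Smooth) g inferInstance ⟨O, hO⟩ ⟨V, hV⟩ hVO
  algebraize [(g.appLE O V hVO).hom]
  let q := hV.primeIdealOf ⟨z, hzV⟩
  let := Z.presheaf.algebra_section_stalk (⟨z, hzV⟩ : V)
  haveI : IsLocalization.AtPrime (Z.presheaf.stalk z) q.asIdeal := hV.isLocalization_stalk ⟨z, hzV⟩
  have hB : EGA4.IsNormalRing Γ(Z, V) :=
    NormalSmooth12.isNormalRing_of_smooth (isNormalRing_of_isNormalScheme hX hO)
  exact NormalSmooth12.normalDomain_of_ringEquiv
    (IsLocalization.algEquiv q.asIdeal.primeCompl (Localization.AtPrime q.asIdeal) (Z.presheaf.stalk z)).toRingEquiv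
    (hB q.asIdeal)

section Stalk

variable {Y : Scheme.{u}} (y : Y) [IsDomain (Y.presheaf.stalk y)]

/-- The generic point of the local ring. -/
noncomputable abbrev gen : Spec (Y.presheaf.stalk y) := (⟨⊥, Ideal.isPrime_bot⟩ : PrimeSpectrum (Y.presheaf.stalk y))

theorem gen_specializes (p : Spec (Y.presheaf.stalk y)) : gen y ⤳ p :=
  (PrimeSpectrum.le_iff_specializes (gen y) p).1 bot_le

/-- Generalisations of the generic point of a local ring are trivial. -/
theorem eq_of_specializes_gen {w : Y} (h : w ⤳ Y.fromSpecStalk y (gen y)) : w = Y.fromSpecStalk y (gen y) := by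
  have hy : w ⤳ y := h.trans ((gen_specializes y (IsLocalRing.closedPoint _)).map
    (Y.fromSpecStalk y).continuous |>.trans (Inseparable.of_eq Scheme.fromSpecStalk_closedPoint).specializes)
  obtain ⟨P, rfl⟩ : w ∈ Set.range (Y.fromSpecStalk y) := by rw [Scheme.range_fromSpecStalk]; exact hy
  have h1 : P ⤳ gen y := ((Y.fromSpecStalk y).isEmbedding.isInducing.specializes_iff).1 h
  exact congrArg _ (h1.antisymm (gen_specializes y P)).eq

theorem gen_mem_range {D : Scheme.{u}} (d : D ⟶ Y) [IsDominant d] [QuasiCompact d] :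
    Y.fromSpecStalk y (gen y) ∈ Set.range d := by
  obtain ⟨a, ha⟩ := AlgSpDecent.exists_specializes_of_mem_closure_range d
    (y := Y.fromSpecStalk y (gen y)) (d.denseRange _)
  exact ⟨a, eq_of_specializes_gen y ha⟩

theorem fromSpec_fraction (K : Type u) [Field K] [Algebra (Y.presheaf.stalk y) K]
    [IsFractionRing (Y.presheaf.stalk y) K] (z : Spec (CommRingCat.of K)) :
    Spec.map (CommRingCat.ofHom (algebraMap (Y.presheaf.stalk y) K)) z = gen y := by
  refine PrimeSpectrum.ext ?_
  show Ideal.comap (algebraMap (Y.presheaf.stalk y) K) (z : PrimeSpectrum K).asIdeal = ⊥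
  rw [(Ideal.eq_bot_or_top (z : PrimeSpectrum K).asIdeal).resolve_right (z : PrimeSpectrum K).isPrime.ne_top,
    ← RingHom.ker, ← RingHom.injective_iff_ker_eq_bot]
  exact IsFractionRing.injective _ _

end Stalk

/-- A morphism from the generic point of a normal local ring to a finite scheme extends. -/
theorem exists_lift_finite {O : CommRingCat.{u}} [IsDomain O] [IsIntegrallyClosed O] (K : Type u) [Field K]
    [Algebra O K] [IsFractionRing O K] {T S : Scheme.{u}} (π : T ⟶ S) [IsFinite π] (τ : Spec O ⟶ S)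
    (k : Spec (CommRingCat.of K) ⟶ T) (w : k ≫ π = Spec.map (CommRingCat.ofHom (algebraMap O K)) ≫ τ) :
    ∃ a : Spec O ⟶ T, a ≫ π = τ ∧ Spec.map (CommRingCat.ofHom (algebraMap O K)) ≫ a = k := by
  let j := Spec.map (CommRingCat.ofHom (algebraMap O K))
  let Q := pullback π τ
  haveI : IsFinite (pullback.snd π τ) := MorphismProperty.pullback_snd _ _ ‹_›
  haveI : IsAffine Q := isAffine_of_isAffineHom (pullback.snd π τ)
  let kQ : Spec (CommRingCat.of K) ⟶ Q := pullback.lift k j w
  let r : O ⟶ Γ(Q, ⊤) := Spec.preimage (Q.isoSpec.inv ≫ pullback.snd π τ)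
  let κ : Γ(Q, ⊤) ⟶ CommRingCat.of K := Spec.preimage (kQ ≫ Q.isoSpec.hom)
  have hr : r.hom.IsIntegral := by
    haveI : IsFinite (Q.isoSpec.inv ≫ pullback.snd π τ) := inferInstance
    have h : IsFinite (Spec.map r) := by rw [Spec.map_preimage]; infer_instance
    exact RingHom.IsIntegral.of_finite ((IsFinite.SpecMap_iff _).1 h)
  have hκ : r ≫ κ = CommRingCat.ofHom (algebraMap O K) := by
    refine Spec.map_injective ?_
    rw [Spec.map_comp, Spec.map_preimage, Spec.map_preimage, Category.assoc, Iso.hom_inv_id_assoc,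
      pullback.lift_snd]
  have hint : ∀ b, ∃ x : O, algebraMap O K x = κ b := by
    intro b
    refine IsIntegrallyClosed.isIntegral_iff.1 ?_
    obtain ⟨p, hp, hpb⟩ := hr b
    refine ⟨p, hp, ?_⟩
    rw [show algebraMap O K = κ.hom.comp r.hom from (congrArg CommRingCat.Hom.hom hκ).symm,
      ← Polynomial.hom_eval₂, hpb, map_zero]
  choose ρ hρ using hint
  have hinj := IsFractionRing.injective O K
  let ρ' : Γ(Q, ⊤) →+* O :=
    { toFun := ρ
      map_one' := hinj (by rw [hρ, map_one, map_one])
      map_mul' := fun x y => hinj (by rw [hρ, map_mul, map_mul, hρ, hρ])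
      map_zero' := hinj (by rw [hρ, map_zero, map_zero])
      map_add' := fun x y => hinj (by rw [hρ, map_add, map_add, hρ, hρ]) }
  let a : Spec O ⟶ Q := Spec.map (CommRingCat.ofHom ρ') ≫ Q.isoSpec.inv
  have ha : j ≫ a = kQ := by
    rw [← Category.assoc, ← Spec.map_comp, show CommRingCat.ofHom ρ' ≫ CommRingCat.ofHom (algebraMap O K) = κ from
      CommRingCat.hom_ext (RingHom.ext hρ), Spec.map_preimage, Category.assoc, Iso.hom_inv_id, Category.comp_id]
  refine ⟨a ≫ pullback.fst π τ, ?_, by rw [← Category.assoc, ha, pullback.lift_fst]⟩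
  have h1 : a ≫ pullback.snd π τ = 𝟙 _ := by
    obtain ⟨φ, hφ⟩ := Spec.map_surjective (a ≫ pullback.snd π τ)
    have h2 : φ ≫ CommRingCat.ofHom (algebraMap O K) = CommRingCat.ofHom (algebraMap O K) := by
      refine Spec.map_injective ?_
      rw [Spec.map_comp, hφ, ← Category.assoc, ha, pullback.lift_snd]
    rw [← hφ, show φ = 𝟙 O from CommRingCat.hom_ext (RingHom.ext fun x => hinj (ConcreteCategory.congr_hom h2 x)),
      Spec.map_id]
  rw [Category.assoc, pullback.condition, ← Category.assoc, h1, Category.id_comp]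

/-- A section of a finite morphism between normal schemes lands in the smooth locus. -/
theorem section_mem_smoothLocus {P Z : Scheme.{u}} (p : P ⟶ Z) [IsFinite p] [LocallyOfFinitePresentation p]
    (hP : Pi1.IsNormalScheme P) (hZ : Pi1.IsNormalScheme Z) (σ : Z ⟶ P) (hσ : σ ≫ p = 𝟙 Z) (z : Z) :
    σ z ∈ p.smoothLocus := by
  haveI : IsClosedImmersion σ := by
    haveI : IsClosedImmersion (σ ≫ p) := by rw [hσ]; infer_instance
    exact IsClosedImmersion.of_comp σ p
  haveI := (hP (σ z)).1
  haveI := (hZ z).1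
  let ξ := Z.fromSpecStalk z (gen z)
  -- the generic point of the local ring upstairs maps to the image of the generic point below
  have hσξ : P.fromSpecStalk (σ z) (Spec.map (σ.stalkMap z) (gen z)) = σ ξ := by
    rw [← Scheme.Hom.comp_apply, Scheme.SpecMap_stalkMap_fromSpecStalk, Scheme.Hom.comp_apply]
  have hgen : Spec.map (σ.stalkMap z) (gen z) = gen (σ z) := by
    refine (P.fromSpecStalk (σ z)).isEmbedding.injective ?_
    rw [hσξ]
    let w := P.fromSpecStalk (σ z) (gen (σ z))
    have hw : w ⤳ σ ξ := hσξ ▸ (gen_specializes (σ z) _).map (P.fromSpecStalk (σ z)).continuous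
    have hp : p (σ ξ) = ξ := by rw [← Scheme.Hom.comp_apply, hσ]; rfl
    have hpw : p w = ξ := eq_of_specializes_gen z
      ((hw.map p.continuous).trans (Inseparable.of_eq hp).specializes)
    have hd := p.isDiscrete_preimage_singleton ξ
    rw [isDiscrete_iff_discreteTopology] at hd
    have h1 : (⟨w, hpw⟩ : p ⁻¹' {ξ}) ⤳ ⟨σ ξ, hp⟩ := (subtype_specializes_iff _ _).2 hw
    exact (congrArg Subtype.val h1.eq).symm
  have hinj : Function.Injective (σ.stalkMap z) := by
    rw [RingHom.injective_iff_ker_eq_bot]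
    exact congrArg PrimeSpectrum.asIdeal hgen
  have hφ : Function.Bijective (σ.stalkMap z) := ⟨hinj, σ.stalkMap_surjective z⟩
  have hb : Function.Bijective ((σ ≫ p).stalkMap z) := by
    haveI : IsIso (σ ≫ p) := by rw [hσ]; infer_instance
    exact ConcreteCategory.bijective_of_isIso ((σ ≫ p).stalkMap z)
  rw [Scheme.Hom.stalkMap_comp] at hb
  have hψ : Function.Bijective (p.stalkMap (σ z)) := (Function.Bijective.of_comp_iff' hφ _).1 hb
  rw [Scheme.Hom.mem_smoothLocus]
  exact RingHom.FormallySmooth.of_bijective hψ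

end Groth.Agent.NormalExt19
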